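import Groth.Agent.Lib.Helper6.FunMor.RExact
import Mathlib.Algebra.Category.ModuleCat.Colimits
import Mathlib.CategoryTheory.Limits.Preserves.Shapes.Products

set_option linter.unusedSectionVars false
set_option linter.unusedVariables false
set_option linter.unusedSimpArgs false
set_option autoImplicit false
set_option linter.style.haveILetI false
set_option maxHeartbeats 400000

noncomputable section

namespace Groth.Agent.Lib.Helper6.FunMor.EW

open CategoryTheory CategoryTheory.Limits Groth.Agent.Lib.Helper6.FunMor

universe u v' u'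

variable {A : Type u} [CommRing A] {C : Type u'} [Category.{v'} C] [Preadditive C]

/-- the base object -/
abbrev base : ModuleCat.{u} A := ModuleCat.of A A

/-- multiplication on the base -/
abbrev mulM (a : A) : base (A := A) ⟶ base := ModuleCat.ofHom (LinearMap.lsmul A A a)

/-- the map attached to an element -/
def hatM {M : ModuleCat.{u} A} (m : M) : base (A := A) ⟶ M :=
  ModuleCat.ofHom ((LinearMap.id : A →ₗ[A] A).smulRight m)

lemma hatM_apply {M : ModuleCat.{u} A} (m : M) (a : A) : (hatM m).hom a = a • m := rfl

lemma hatM_comp {M N : ModuleCat.{u} A} (m : M) (f : M ⟶ N) : hatM m ≫ f = hatM (f.hom m) := by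
  apply ModuleCat.hom_ext
  apply LinearMap.ext
  intro a
  change f.hom (a • m) = a • f.hom m
  rw [map_smul]

lemma hatM_add {M : ModuleCat.{u} A} (m m' : M) : hatM (m + m') = hatM m + hatM m' := by
  apply ModuleCat.hom_ext
  apply LinearMap.ext
  intro a
  change a • (m + m') = a • m + a • m'
  rw [smul_add]

lemma hatM_smul {M : ModuleCat.{u} A} (a : A) (m : M) : hatM (a • m) = mulM a ≫ hatM m := by
  apply ModuleCat.hom_ext
  apply LinearMap.ext
  intro b
  change b • a • m = (a * b) • m
  rw [smul_smul, mul_comm]

lemma hatM_base (a : A) : (hatM (M := base (A := A)) a) = mulM a := by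
  apply ModuleCat.hom_ext
  apply LinearMap.ext
  intro b
  change b • a = a * b
  rw [smul_eq_mul, mul_comm]

variable (F : ModuleCat.{u} A ⥤ C) [F.Additive]

/-- the action of `A` on `F(A)` -/
def kapM : A →+* End (F.obj (base (A := A))) where
  toFun a := F.map (mulM a)
  map_one' := by
    have : mulM (1 : A) = 𝟙 _ := by
      apply ModuleCat.hom_ext
      apply LinearMap.ext
      intro b
      change (1 : A) * b = b
      rw [one_mul]
    rw [this, F.map_id]; rfl
  map_mul' a b := by
    have : mulM (a * b) = mulM b ≫ mulM a := by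
      apply ModuleCat.hom_ext
      apply LinearMap.ext
      intro c
      change a * b * c = a * (b * c)
      rw [mul_assoc]
    rw [this, F.map_comp]; rfl
  map_zero' := by
    have : mulM (0 : A) = 0 := by
      apply ModuleCat.hom_ext
      apply LinearMap.ext
      intro c
      change (0 : A) * c = 0
      rw [zero_mul]
    rw [this, F.map_zero]
  map_add' a b := by
    have : mulM (a + b) = mulM a + mulM b := by
      apply ModuleCat.hom_ext
      apply LinearMap.ext
      intro c
      change (a + b) * c = a * c + b * c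
      rw [add_mul]
    rw [this, F.map_add]

lemma kapM_apply (a : A) : (kapM F a : F.obj base ⟶ F.obj base) = F.map (mulM a) := rfl

/-- the candidate universal element -/
def uM (M : ModuleCat.{u} A) : M →ₗ[A] HomK (kapM F) (F.obj M) where
  toFun m := HomK.mk _ (F.map (hatM m))
  map_add' m m' := by
    apply HomK.ext
    simp only [HomK.hom_mk, HomK.hom_add]
    rw [hatM_add, F.map_add]
  map_smul' a m := by
    apply HomK.ext
    simp only [HomK.hom_mk, HomK.hom_smul, RingHom.id_apply]
    rw [hatM_smul, F.map_comp, kapM_apply]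

lemma uM_apply_hom (M : ModuleCat.{u} A) (m : M) : (uM F M m).hom = F.map (hatM m) := rfl

lemma uM_natural {M N : ModuleCat.{u} A} (f : M ⟶ N) :
    (postL (kapM F) (F.map f)).comp (uM F M) = (uM F N).comp f.hom := by
  apply LinearMap.ext
  intro m
  apply HomK.ext
  change F.map (hatM m) ≫ F.map f = F.map (hatM (f.hom m))
  rw [← F.map_comp, hatM_comp]

section Free

variable (J : Type u)

/-- free object -/
abbrev freeM : ModuleCat.{u} A := ModuleCat.of A (J →₀ A)

/-- inclusions -/
def injM (j : J) : base (A := A) ⟶ freeM J := ModuleCat.ofHom (Finsupp.lsingle j)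

/-- the cofan of the free module is a coproduct -/
def freeIsColimit : IsColimit (Cofan.mk (freeM (A := A) J) (injM J)) :=
  mkCofanColimit _
    (fun s => ModuleCat.ofHom (Finsupp.lsum ℕ (fun j => (s.inj j).hom)))
    (fun s j => by
      apply ModuleCat.hom_ext
      apply LinearMap.ext
      intro a
      change (Finsupp.lsum ℕ (fun j => (s.inj j).hom)) (Finsupp.single j a) = (s.inj j).hom a
      simp)
    (fun s m hm => by
      apply ModuleCat.hom_ext
      apply Finsupp.lhom_ext'
      intro j
      apply LinearMap.ext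
      intro a
      have := congrArg (fun t => t.hom a) (hm j)
      change m.hom (Finsupp.single j a) = (s.inj j).hom a at this
      change m.hom (Finsupp.single j a) =
        (Finsupp.lsum ℕ (fun j => (s.inj j).hom)) (Finsupp.single j a)
      rw [this]
      simp)

variable [∀ J : Type u, PreservesColimitsOfShape (Discrete J) F]

lemma hatM_single (j : J) : hatM (M := freeM (A := A) J) (Finsupp.single j (1 : A)) = injM J j := by
  apply ModuleCat.hom_ext
  apply LinearMap.ext
  intro a
  change a • (Finsupp.single j (1 : A)) = Finsupp.single j a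
  rw [Finsupp.smul_single, smul_eq_mul, mul_one]

/-- the free corepresentation -/
def freeCorepM : Corep (kapM F) (J →₀ A) where
  Y := F.obj (freeM J)
  u := uM F (freeM J)
  bij X := by
    have hcol : IsColimit (Cofan.mk (F.obj (freeM (A := A) J)) (fun j => F.map (injM J j))) :=
      isColimitCofanMkObjOfIsColimit F _ _ (freeIsColimit J)
    constructor
    · intro g g' h
      apply Cofan.IsColimit.hom_ext hcol
      intro j
      have := congrArg (fun ℓ => (ℓ (Finsupp.single j (1 : A))).hom) h
      change F.map (hatM (M := freeM J) (Finsupp.single j (1 : A))) ≫ g =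
        F.map (hatM (M := freeM J) (Finsupp.single j (1 : A))) ≫ g' at this
      rw [hatM_single] at this
      exact this
    · intro ℓ
      refine ⟨Cofan.IsColimit.desc hcol (fun j => (ℓ (Finsupp.single j 1)).hom), ?_⟩
      apply Finsupp.lhom_ext'
      intro j
      apply LinearMap.ext_ring
      apply HomK.ext
      change F.map (hatM (M := freeM J) (Finsupp.single j (1 : A))) ≫
        Cofan.IsColimit.desc hcol (fun j => (ℓ (Finsupp.single j 1)).hom) =
        (ℓ (Finsupp.single j 1)).hom
      rw [hatM_single]
      exact Cofan.IsColimit.fac hcol _ j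

end Free

section Colim

lemma ker_le_of_exactM {X Y Z Z' : ModuleCat.{u} A} (f : X ⟶ Y) (p : Y ⟶ Z)
    (hex : Function.Exact f.hom p.hom) (g' : Y ⟶ Z') (eq' : f ≫ g' = 0) :
    LinearMap.ker p.hom ≤ LinearMap.ker g'.hom := by
  intro x hx
  obtain ⟨y, rfl⟩ := (hex x).1 hx
  rw [LinearMap.mem_ker]
  exact congrArg (fun t => t.hom y) eq'

/-- the descent map -/
def descOfExactM {X Y Z Z' : ModuleCat.{u} A} (f : X ⟶ Y) (p : Y ⟶ Z)
    (hp : Function.Surjective p.hom) (hex : Function.Exact f.hom p.hom)
    (g' : Y ⟶ Z') (eq' : f ≫ g' = 0) : Z ⟶ Z' :=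
  ModuleCat.ofHom (exists_factor p.hom hp g'.hom (ker_le_of_exactM f p hex g' eq')).choose

lemma fac_descOfExactM {X Y Z Z' : ModuleCat.{u} A} (f : X ⟶ Y) (p : Y ⟶ Z)
    (hp : Function.Surjective p.hom) (hex : Function.Exact f.hom p.hom)
    (g' : Y ⟶ Z') (eq' : f ≫ g' = 0) : p ≫ descOfExactM f p hp hex g' eq' = g' := by
  apply ModuleCat.hom_ext
  exact (exists_factor p.hom hp g'.hom (ker_le_of_exactM f p hex g' eq')).choose_spec

/-- a right exact sequence gives a cokernel cofork -/
def isColimitOfExactM {X Y Z : ModuleCat.{u} A} (f : X ⟶ Y) (p : Y ⟶ Z)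
    (hp : Function.Surjective p.hom) (hex : Function.Exact f.hom p.hom)
    (w : f ≫ p = 0) : IsColimit (CokernelCofork.ofπ p w) :=
  CokernelCofork.IsColimit.ofπ _ _
    (fun {Z'} g' eq' => descOfExactM f p hp hex g' eq')
    (fun {Z'} g' eq' => fac_descOfExactM f p hp hex g' eq')
    (fun {Z'} g' eq' m hm => by
      apply ModuleCat.hom_ext
      apply LinearMap.ext
      intro z
      obtain ⟨y, rfl⟩ := hp z
      have h1 := congrArg (fun t => t.hom y) hm
      have h2 := congrArg (fun t => t.hom y) (fac_descOfExactM f p hp hex g' eq')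
      exact h1.trans h2.symm)

end Colim

section Main

variable [∀ J : Type u, PreservesColimitsOfShape (Discrete J) F]
  [∀ {X Y : ModuleCat.{u} A} (f : X ⟶ Y), PreservesColimit (parallelPair f 0) F]

theorem bij_corepM (X : ModuleCat.{u} A) (Z : C) :
    Function.Bijective (fun g : F.obj X ⟶ Z => (postL (kapM F) g).comp (uM F X)) := by
  -- presentation
  let p : (X →₀ A) →ₗ[A] X := Finsupp.linearCombination A (id : X → X)
  have hp : Function.Surjective p := Finsupp.linearCombination_id_surjective A X
  let Kp : Type u := LinearMap.ker p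
  let ρ : (Kp →₀ A) →ₗ[A] (X →₀ A) :=
    (LinearMap.ker p).subtype.comp (Finsupp.linearCombination A (id : Kp → Kp))
  have hex : Function.Exact ρ p := by
    intro y
    constructor
    · intro hy
      obtain ⟨z, hz⟩ := Finsupp.linearCombination_id_surjective A Kp ⟨y, hy⟩
      exact ⟨z, by change ((LinearMap.ker p).subtype (Finsupp.linearCombination A id z)) = y;
                   rw [hz]; rfl⟩
    · rintro ⟨z, rfl⟩
      exact (Finsupp.linearCombination A (id : Kp → Kp) z).2
  let ρ' : freeM (A := A) Kp ⟶ freeM X := ModuleCat.ofHom ρ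
  let p' : freeM (A := A) X ⟶ X := ModuleCat.ofHom p
  have hmap : (freeCorepM F Kp).map (freeCorepM F X) ρ = F.map ρ' := by
    symm
    exact Corep.map_unique (freeCorepM F Kp) (freeCorepM F X) ρ (F.map ρ') (uM_natural F ρ')
  have w0 : ρ' ≫ p' = 0 := by
    apply ModuleCat.hom_ext
    apply LinearMap.ext
    intro y
    exact (hex (ρ y)).2 ⟨y, rfl⟩
  have hcol0 : IsColimit (CokernelCofork.ofπ p' w0) := isColimitOfExactM ρ' p' hp hex w0
  have w1 : F.map ρ' ≫ F.map p' = 0 := by
    rw [← F.map_comp, w0]
    exact F.map_zero _ _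
  have w : (freeCorepM F Kp).map (freeCorepM F X) ρ ≫ F.map p' = 0 := by
    rw [hmap]; exact w1
  have hcol1 := isColimitCoforkMapOfIsColimit' F w0 hcol0
  have hcol : IsColimit (CokernelCofork.ofπ (F.map p') w) := by
    revert w
    rw [hmap]
    intro w
    exact hcol1
  exact (cokerCorepOfIsColimit (freeCorepM F Kp) (freeCorepM F X) ρ p hp hex (F.map p') w hcol
    (uM F X) (uM_natural F p').symm).bij Z

/-- the corepresentation carried by `F` -/
def corM (X : ModuleCat.{u} A) : Corep (kapM F) X where
  Y := F.obj X
  u := uM F X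
  bij Z := bij_corepM F X Z

end Main

end Groth.Agent.Lib.Helper6.FunMor.EW
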