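import Groth.Agent.Lib.Helper6.FunMor.EWTensor

set_option linter.unusedSectionVars false
set_option linter.unusedVariables false
set_option linter.unusedSimpArgs false
set_option autoImplicit false
set_option linter.style.haveILetI false
set_option maxHeartbeats 400000

noncomputable section

namespace Groth.Agent.Lib.Helper6.FunMor.EW

open CategoryTheory CategoryTheory.Limits Groth.Agent.Lib.Helper6.FunMor TensorProduct
open scoped ModuleCat.Algebra

universe u

variable (R : Type u) [CommRing R] {A B : Type u} [CommRing A] [CommRing B] [Algebra R A]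
  [Algebra R B] (F : ModuleCat.{u} A ⥤ ModuleCat.{u} B) [F.Additive] [F.Linear R]

lemma mulM_algebraMap (r : R) : mulM (algebraMap R A r) =
    (Linear.homModule (R := R) _ _).toSMul.smul r (𝟙 (base (A := A))) := by
  apply ModuleCat.hom_ext
  apply LinearMap.ext
  intro b
  rfl

lemma actions_agree (r : R) (x : KK F) :
    (letI := modA F; algebraMap R A r • x) = algebraMap R B r • x := by
  change (F.map (mulM (algebraMap R A r))).hom x = algebraMap R B r • x
  have h := F.map_smul r (𝟙 (base (A := A)))
  have h2 := congrArg (fun t => t.hom x) h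
  rw [mulM_algebraMap R r]
  refine h2.trans ?_
  rw [F.map_id]
  rfl

variable [PreservesFiniteColimits F] [∀ J : Type u, PreservesColimitsOfShape (Discrete J) F]

theorem part1 :
    ∃ (K : Type u) (_ : AddCommGroup K) (_ : Module A K) (_ : Module B K)
      (_ : SMulCommClass A B K),
      (∀ (r : R) (x : K), algebraMap R A r • x = algebraMap R B r • x) ∧
      ∃ η : ∀ M : ModuleCat.{u} A, (K ⊗[A] M) ≃ₗ[B] F.obj M,
        ∀ (M N : ModuleCat.{u} A) (f : M ⟶ N) (x : K ⊗[A] M),
          η N (LinearMap.lTensor K f.hom x) = F.map f (η M x) := by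
  haveI : ∀ {X Y : ModuleCat.{u} A} (f : X ⟶ Y), PreservesColimit (parallelPair f 0) F :=
    fun f => inferInstance
  refine ⟨KK F, inferInstance, modA F, inferInstance, smulComm F, actions_agree R F,
    fun M => (compIso F M).toLinearEquiv, ?_⟩
  intro M N f x
  exact compIso_natural F f x

end Groth.Agent.Lib.Helper6.FunMor.EW
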