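import Groth.Agent.Lib.Helper6.FunMor.EWBase

set_option linter.unusedSectionVars false
set_option linter.unusedVariables false
set_option linter.unusedSimpArgs false
set_option autoImplicit false
set_option linter.style.haveILetI false
set_option maxHeartbeats 400000

noncomputable section

namespace Groth.Agent.Lib.Helper6.FunMor.EW

open CategoryTheory CategoryTheory.Limits Groth.Agent.Lib.Helper6.FunMor

universe u v' u'

variable {A : Type u} [CommRing A] {C : Type u'} [Category.{v'} C] [Preadditive C]
  (F F' : ModuleCat.{u} A ⥤ C) [F.Additive] [F'.Additive]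
  [∀ J : Type u, PreservesColimitsOfShape (Discrete J) F]
  [∀ {X Y : ModuleCat.{u} A} (f : X ⟶ Y), PreservesColimit (parallelPair f 0) F]

theorem nat_extM (t t' : F ⟶ F') (h : t.app (base (A := A)) = t'.app base) : t = t' := by
  ext X
  apply (corM F X).hom_ext
  apply LinearMap.ext
  intro m
  apply HomK.ext
  change F.map (hatM m) ≫ t.app X = F.map (hatM m) ≫ t'.app X
  rw [t.naturality, t'.naturality, h]

/-- the linear map defining the extension -/
def extLM (φ : F.obj (base (A := A)) ⟶ F'.obj base)
    (hφ : ∀ a : A, F.map (mulM a) ≫ φ = φ ≫ F'.map (mulM a)) (X : ModuleCat.{u} A) :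
    X →ₗ[A] HomK (kapM F) (F'.obj X) where
  toFun m := HomK.mk _ (φ ≫ F'.map (hatM m))
  map_add' m m' := by
    apply HomK.ext
    simp only [HomK.hom_mk, HomK.hom_add]
    rw [hatM_add, F'.map_add, Preadditive.comp_add]
  map_smul' a m := by
    apply HomK.ext
    simp only [HomK.hom_mk, HomK.hom_smul, RingHom.id_apply]
    rw [hatM_smul, F'.map_comp, kapM_apply, ← Category.assoc, ← hφ, Category.assoc]

/-- the extension -/
def extNatM (φ : F.obj (base (A := A)) ⟶ F'.obj base)
    (hφ : ∀ a : A, F.map (mulM a) ≫ φ = φ ≫ F'.map (mulM a)) : F ⟶ F' where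
  app X := (corM F X).lift (extLM F F' φ hφ X)
  naturality X Y f := by
    apply (corM F X).hom_ext
    apply LinearMap.ext
    intro m
    apply HomK.ext
    change F.map (hatM m) ≫ F.map f ≫ (corM F Y).lift (extLM F F' φ hφ Y) =
      F.map (hatM m) ≫ (corM F X).lift (extLM F F' φ hφ X) ≫ F'.map f
    have h1 := congrArg (fun t => (t (f.hom m)).hom) ((corM F Y).lift_spec (extLM F F' φ hφ Y))
    have h2 := congrArg (fun t => (t m).hom) ((corM F X).lift_spec (extLM F F' φ hφ X))
    change F.map (hatM (f.hom m)) ≫ (corM F Y).lift (extLM F F' φ hφ Y) =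
      φ ≫ F'.map (hatM (f.hom m)) at h1
    change F.map (hatM m) ≫ (corM F X).lift (extLM F F' φ hφ X) = φ ≫ F'.map (hatM m) at h2
    rw [← Category.assoc, ← F.map_comp, hatM_comp, h1, ← Category.assoc, h2, Category.assoc,
      ← F'.map_comp, hatM_comp]

lemma extNatM_app_base (φ : F.obj (base (A := A)) ⟶ F'.obj base)
    (hφ : ∀ a : A, F.map (mulM a) ≫ φ = φ ≫ F'.map (mulM a)) :
    (extNatM F F' φ hφ).app base = φ := by
  apply (corM F base).hom_ext
  apply LinearMap.ext
  intro a
  apply HomK.ext
  have h2 := congrArg (fun t => (t a).hom) ((corM F base).lift_spec (extLM F F' φ hφ base))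
  change F.map (hatM (M := base) a) ≫ (corM F base).lift (extLM F F' φ hφ base) =
    φ ≫ F'.map (hatM (M := base) a) at h2
  change F.map (hatM (M := base) a) ≫ (corM F base).lift (extLM F F' φ hφ base) =
    F.map (hatM (M := base) a) ≫ φ
  rw [h2, hatM_base, hφ]

end Groth.Agent.Lib.Helper6.FunMor.EW
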