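import Groth.Agent.Lib.Helper6.FunMor.EWFull
import Mathlib.LinearAlgebra.TensorProduct.Tower
import Mathlib.CategoryTheory.Linear.LinearFunctor

set_option linter.unusedSectionVars false
set_option linter.unusedVariables false
set_option linter.unusedSimpArgs false
set_option autoImplicit false
set_option linter.style.haveILetI false
set_option maxHeartbeats 400000

noncomputable section

namespace Groth.Agent.Lib.Helper6.FunMor.EW

open CategoryTheory CategoryTheory.Limits Groth.Agent.Lib.Helper6.FunMor TensorProduct

universe u

variable {A B : Type u} [CommRing A] [CommRing B]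
  (F : ModuleCat.{u} A ⥤ ModuleCat.{u} B) [F.Additive]

/-- the carrier -/
abbrev KK : Type u := F.obj (base (A := A))

/-- the action as a ring hom into the endomorphism ring -/
def actEnd : A →+* Module.End B (KK F) where
  toFun a := (F.map (mulM a)).hom
  map_one' := by
    have := (kapM F).map_one
    exact congrArg ModuleCat.Hom.hom this
  map_mul' a b := by
    have := (kapM F).map_mul a b
    exact congrArg ModuleCat.Hom.hom this
  map_zero' := by
    have := (kapM F).map_zero
    exact congrArg ModuleCat.Hom.hom this
  map_add' a b := by
    have := (kapM F).map_add a b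
    exact congrArg ModuleCat.Hom.hom this

/-- the `A`-module structure on `F(A)` -/
@[reducible] def modA : Module A (KK F) := Module.compHom (KK F) (actEnd F)

lemma modA_smul (a : A) (k : KK F) :
    (letI := modA F; a • k) = (F.map (mulM a)).hom k := rfl

/-- the actions commute -/
lemma smulComm : letI := modA F; SMulCommClass A B (KK F) := by
  letI := modA F
  exact ⟨fun a b k => by
    change (F.map (mulM a)).hom (b • k) = b • (F.map (mulM a)).hom k
    rw [map_smul]⟩

section Tensor

variable (M : Type u) [AddCommGroup M] [Module A M]

/-- the `B`-linear map `k ↦ k ⊗ m` -/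
def tmulRight (m : M) :
    letI := modA F
    letI := smulComm F
    KK F →ₗ[B] (KK F ⊗[A] M) :=
  letI := modA F
  letI := smulComm F
  { toFun := fun k => k ⊗ₜ[A] m
    map_add' := fun k k' => TensorProduct.add_tmul k k' m
    map_smul' := fun b k => (TensorProduct.smul_tmul' b k m).symm }

/-- the tensor product object -/
@[reducible] def tensObj : ModuleCat.{u} B :=
  letI := modA F
  letI := smulComm F
  ModuleCat.of B (KK F ⊗[A] M)

/-- the universal element of the tensor product -/
def tensU : M →ₗ[A] HomK (kapM F) (tensObj F M) :=
  letI := modA F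
  letI := smulComm F
  { toFun := fun m => HomK.mk _ (ModuleCat.ofHom (tmulRight F M m))
    map_add' := fun m m' => by
      apply HomK.ext
      apply ModuleCat.hom_ext
      apply LinearMap.ext
      intro k
      exact TensorProduct.tmul_add k m m'
    map_smul' := fun a m => by
      apply HomK.ext
      apply ModuleCat.hom_ext
      apply LinearMap.ext
      intro k
      change k ⊗ₜ[A] (a • m) = ((F.map (mulM a)).hom k) ⊗ₜ[A] m
      rw [← modA_smul, TensorProduct.smul_tmul] }

lemma tensU_apply (m : M) (k : KK F) :
    letI := modA F
    letI := smulComm F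
    ((tensU F M m).hom.hom k : KK F ⊗[A] M) = k ⊗ₜ[A] m := rfl

/-- the additive lift -/
def liftAdd (X : ModuleCat.{u} B) (ℓ : M →ₗ[A] HomK (kapM F) X) :
    letI := modA F
    (KK F ⊗[A] M) →+ X :=
  letI := modA F
  TensorProduct.liftAddHom
    { toFun := fun k =>
        { toFun := fun m => (ℓ m).hom.hom k
          map_zero' := by rw [map_zero]; rfl
          map_add' := fun m m' => by rw [map_add]; rfl }
      map_zero' := by
        ext m
        exact map_zero (ℓ m).hom.hom
      map_add' := fun k k' => by
        ext m
        exact map_add (ℓ m).hom.hom k k' }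
    (fun a k m => by
      change (ℓ m).hom.hom ((F.map (mulM a)).hom k) = (ℓ (a • m)).hom.hom k
      rw [LinearMap.map_smul ℓ a m]
      rfl)

lemma liftAdd_tmul (X : ModuleCat.{u} B) (ℓ : M →ₗ[A] HomK (kapM F) X) (k : KK F) (m : M) :
    letI := modA F
    liftAdd F M X ℓ (k ⊗ₜ[A] m) = (ℓ m).hom.hom k := rfl

/-- the `B`-linear lift -/
def liftLin (X : ModuleCat.{u} B) (ℓ : M →ₗ[A] HomK (kapM F) X) :
    letI := modA F
    letI := smulComm F
    (KK F ⊗[A] M) →ₗ[B] X :=
  letI := modA F
  letI := smulComm F
  { toFun := liftAdd F M X ℓ
    map_add' := map_add _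
    map_smul' := fun b x => by
      induction x using TensorProduct.induction_on with
      | zero => simp
      | tmul k m =>
        rw [TensorProduct.smul_tmul']
        change liftAdd F M X ℓ ((b • k) ⊗ₜ[A] m) = b • liftAdd F M X ℓ (k ⊗ₜ[A] m)
        rw [liftAdd_tmul, liftAdd_tmul, map_smul]
      | add x y hx hy =>
        rw [smul_add, map_add, hx, hy, map_add, smul_add] }

/-- the tensor corepresentation -/
def tensCorep : Corep (kapM F) M where
  Y := tensObj F M
  u := tensU F M
  bij X := by
    letI := modA F
    letI := smulComm F
    constructor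
    · intro g g' h
      apply ModuleCat.hom_ext
      apply LinearMap.ext
      intro x
      induction x using TensorProduct.induction_on with
      | zero => exact (map_zero g.hom).trans (map_zero g'.hom).symm
      | tmul k m =>
        have := congrArg (fun t => (t m).hom.hom k) h
        exact this
      | add x y hx hy =>
        exact (map_add g.hom x y).trans ((congrArg₂ (· + ·) hx hy).trans (map_add g'.hom x y).symm)
    · intro ℓ
      refine ⟨ModuleCat.ofHom (liftLin F M X ℓ), ?_⟩
      apply LinearMap.ext
      intro m
      apply HomK.ext
      apply ModuleCat.hom_ext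
      apply LinearMap.ext
      intro k
      rfl

end Tensor

section Compare

variable [∀ J : Type u, PreservesColimitsOfShape (Discrete J) F]
  [∀ {X Y : ModuleCat.{u} A} (f : X ⟶ Y), PreservesColimit (parallelPair f 0) F]

/-- the comparison isomorphism -/
def compIso (M : ModuleCat.{u} A) : tensObj F M ≅ F.obj M :=
  (tensCorep F M).iso (corM F M)

lemma lTensor_eq_map {M N : ModuleCat.{u} A} (f : M ⟶ N) :
    letI := modA F
    letI := smulComm F
    (ModuleCat.ofHom
      ({ toFun := LinearMap.lTensor (KK F) f.hom
         map_add' := map_add _
         map_smul' := fun b x => by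
          induction x using TensorProduct.induction_on with
          | zero => simp
          | tmul k m =>
            rw [TensorProduct.smul_tmul']
            rfl
          | add x y hx hy =>
            rw [smul_add, map_add, hx, hy, map_add, smul_add] } :
        (KK F ⊗[A] M) →ₗ[B] (KK F ⊗[A] N)) : tensObj F M ⟶ tensObj F N) =
      (tensCorep F M).map (tensCorep F N) f.hom := by
  letI := modA F
  letI := smulComm F
  refine Corep.map_unique (tensCorep F M) (tensCorep F N) f.hom _ ?_
  apply LinearMap.ext
  intro m
  apply HomK.ext
  apply ModuleCat.hom_ext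
  apply LinearMap.ext
  intro k
  rfl

lemma Fmap_eq_map {M N : ModuleCat.{u} A} (f : M ⟶ N) :
    F.map f = (corM F M).map (corM F N) f.hom :=
  Corep.map_unique (corM F M) (corM F N) f.hom (F.map f) (uM_natural F f)

lemma compIso_natural {M N : ModuleCat.{u} A} (f : M ⟶ N) (x : (tensObj F M : Type u)) :
    letI := modA F
    letI := smulComm F
    (compIso F N).hom.hom (LinearMap.lTensor (KK F) f.hom (x : KK F ⊗[A] M)) =
      (F.map f).hom ((compIso F M).hom.hom x) := by
  letI := modA F
  letI := smulComm F
  have h1 := lTensor_eq_map F f
  have h2 : (tensCorep F M).map (tensCorep F N) f.hom ≫ (compIso F N).hom =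
      (compIso F M).hom ≫ F.map f := by
    rw [Fmap_eq_map]
    change (tensCorep F M).map (tensCorep F N) f.hom ≫ (tensCorep F N).map (corM F N) LinearMap.id =
      (tensCorep F M).map (corM F M) LinearMap.id ≫ (corM F M).map (corM F N) f.hom
    rw [Corep.map_comp, Corep.map_comp, LinearMap.id_comp, LinearMap.comp_id]
  rw [← h1] at h2
  exact congrArg (fun t => t.hom x) h2

end Compare

end Groth.Agent.Lib.Helper6.FunMor.EW
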