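import Groth.Agent.Lib.Helper6.FunMor.HomK

set_option linter.unusedSectionVars false
set_option linter.unusedVariables false
set_option linter.unusedSimpArgs false
set_option autoImplicit false
set_option linter.style.haveILetI false
set_option maxHeartbeats 400000

noncomputable section

namespace Groth.Agent.Lib.Helper6.FunMor

open CategoryTheory CategoryTheory.Limits

universe u v' u' w w' w''

variable {A : Type u} [CommRing A] {B : Type u'} [Category.{v'} B] [Preadditive B] {K : B}
  (κ : A →+* End K)

section Free

variable [HasFiniteBiproducts B] (n : ℕ)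

/-- the universal element for a free module -/
def freeU : (Fin n → A) →ₗ[A] HomK κ (⨁ fun _ : Fin n => K) :=
  ∑ i : Fin n, (LinearMap.proj i : (Fin n → A) →ₗ[A] A).smulRight
    (HomK.mk κ (biproduct.ι (fun _ : Fin n => K) i))

lemma freeU_single (i : Fin n) (x : A) :
    freeU κ n (Pi.single i x) = x • HomK.mk κ (biproduct.ι (fun _ : Fin n => K) i) := by
  classical
  unfold freeU
  rw [LinearMap.sum_apply]
  rw [Finset.sum_eq_single i]
  · simp
  · intro j _ hj
    simp [Pi.single_eq_of_ne hj]
  · intro h; exact absurd (Finset.mem_univ i) h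

/-- corepresentation of a free module -/
def freeCorep : Corep κ (Fin n → A) where
  Y := ⨁ fun _ : Fin n => K
  u := freeU κ n
  bij X := by
    classical
    constructor
    · intro g g' h
      apply biproduct.hom_ext'
      intro i
      have := congrArg (fun ℓ => (ℓ (Pi.single i (1 : A))).hom) h
      simp only [LinearMap.comp_apply, postL_apply_hom, freeU_single, one_smul, HomK.hom_mk] at this
      exact this
    · intro ℓ
      refine ⟨biproduct.desc (fun i => (ℓ (Pi.single i 1)).hom), ?_⟩
      apply LinearMap.pi_ext
      intro i x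
      apply HomK.ext
      simp only [LinearMap.comp_apply, postL_apply_hom, freeU_single, HomK.hom_smul, HomK.hom_mk,
        Category.assoc, biproduct.ι_desc]
      have : (Pi.single i x : Fin n → A) = x • Pi.single i (1 : A) := by
        rw [← Pi.single_smul, smul_eq_mul, mul_one]
      rw [this, map_smul, HomK.hom_smul]

end Free

section Coker

variable [HasCokernels B]
variable {M' : Type w'} [AddCommGroup M'] [Module A M'] {M'' : Type w''} [AddCommGroup M'']
  [Module A M''] {M : Type w} [AddCommGroup M] [Module A M]

lemma exists_factor {N : Type*} [AddCommGroup N] [Module A N] (p : M'' →ₗ[A] M)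
    (hp : Function.Surjective p) (ℓ : M'' →ₗ[A] N) (h : LinearMap.ker p ≤ LinearMap.ker ℓ) :
    ∃ ℓ' : M →ₗ[A] N, ℓ'.comp p = ℓ := by
  refine ⟨((LinearMap.ker p).liftQ ℓ h).comp
    (LinearMap.quotKerEquivOfSurjective p hp).symm.toLinearMap, ?_⟩
  ext x
  simp only [LinearMap.comp_apply, LinearEquiv.coe_coe]
  have : (LinearMap.quotKerEquivOfSurjective p hp).symm (p x) = Submodule.Quotient.mk x := by
    rw [LinearEquiv.symm_apply_eq]
    rfl
  rw [this]
  rfl

variable {κ}

/-- the universal element of the cokernel corepresentation (chosen) -/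
def cokerU (c' : Corep κ M') (c'' : Corep κ M'') (ρ : M' →ₗ[A] M'') (p : M'' →ₗ[A] M)
    (hp : Function.Surjective p) (hex : Function.Exact ρ p) :
    { ℓ : M →ₗ[A] HomK κ (cokernel (c'.map c'' ρ)) //
      ℓ.comp p = (postL κ (cokernel.π (c'.map c'' ρ))).comp c''.u } := by
  have h : LinearMap.ker p ≤ LinearMap.ker ((postL κ (cokernel.π (c'.map c'' ρ))).comp c''.u) := by
    intro x hx
    obtain ⟨y, rfl⟩ := (hex x).1 hx
    rw [LinearMap.mem_ker]
    have h1 := LinearMap.congr_fun (c'.map_spec c'' ρ) y
    simp only [LinearMap.comp_apply] at h1 ⊢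
    rw [← h1]
    apply HomK.ext
    simp only [postL_apply_hom, Category.assoc, cokernel.condition, comp_zero, HomK.hom_zero]
  exact ⟨(exists_factor p hp _ h).choose, (exists_factor p hp _ h).choose_spec⟩

/-- corepresentation of a cokernel -/
@[reducible] def cokerCorep (c' : Corep κ M') (c'' : Corep κ M'') (ρ : M' →ₗ[A] M'') (p : M'' →ₗ[A] M)
    (hp : Function.Surjective p) (hex : Function.Exact ρ p) : Corep κ M where
  Y := cokernel (c'.map c'' ρ)
  u := (cokerU c' c'' ρ p hp hex).1
  bij X := by
    have hu := (cokerU c' c'' ρ p hp hex).2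
    constructor
    · intro g g' h
      have h' := congrArg (fun ℓ => ℓ.comp p) h
      simp only [LinearMap.comp_assoc, hu] at h'
      rw [← LinearMap.comp_assoc, ← LinearMap.comp_assoc, ← postL_comp, ← postL_comp] at h'
      have := c''.hom_ext h'
      exact (cancel_epi _).1 this
    · intro ℓ
      have hz : c'.map c'' ρ ≫ c''.lift (ℓ.comp p) = 0 := by
        apply c'.hom_ext
        rw [postL_comp, LinearMap.comp_assoc, Corep.map_spec, ← LinearMap.comp_assoc,
          Corep.lift_spec, postL_zero, LinearMap.zero_comp]
        ext y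
        simp only [LinearMap.comp_apply]
        rw [(hex (ρ y)).2 ⟨y, rfl⟩, map_zero]
        rfl
      refine ⟨cokernel.desc _ _ hz, ?_⟩
      have hsurj : Function.Surjective p := hp
      apply LinearMap.ext
      intro x
      obtain ⟨y, rfl⟩ := hp x
      have h1 := LinearMap.congr_fun hu y
      simp only [LinearMap.comp_apply] at h1 ⊢
      rw [h1]
      have h2 := LinearMap.congr_fun (c''.lift_spec (ℓ.comp p)) y
      simp only [LinearMap.comp_apply] at h2
      rw [← h2]
      apply HomK.ext
      simp only [postL_apply_hom, Category.assoc, cokernel.π_desc]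

end Coker

/-- every finitely presented module has a corepresentation -/
theorem nonempty_corep [HasFiniteBiproducts B] [HasCokernels B] (M : Type w) [AddCommGroup M]
    [Module A M] [Module.FinitePresentation A M] : Nonempty (Corep κ M) := by
  obtain ⟨n, m, f, g, hf, hex⟩ := Module.FinitePresentation.exists_fin' A M
  exact ⟨cokerCorep (freeCorep κ m) (freeCorep κ n) g f hf hex⟩

/-- the corepresentation of `A` itself by `K` -/
@[reducible] def selfCorep : Corep κ A where
  Y := K
  u := (LinearMap.id : A →ₗ[A] A).smulRight (HomK.mk κ (𝟙 K))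
  bij X := by
    constructor
    · intro g g' h
      have := congrArg (fun ℓ => (ℓ (1 : A)).hom) h
      simpa using this
    · intro ℓ
      refine ⟨(ℓ 1).hom, ?_⟩
      apply LinearMap.ext_ring
      apply HomK.ext
      simp

lemma selfCorep_u_apply (a : A) : ((selfCorep κ).u a).hom = (κ a : K ⟶ K) := by
  change (a • HomK.mk κ (𝟙 K)).hom = _
  rw [HomK.hom_smul, HomK.hom_mk]
  exact Category.comp_id _

end Groth.Agent.Lib.Helper6.FunMor
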