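import Mathlib.Algebra.Category.ModuleCat.Basic
import Mathlib.Algebra.Module.FinitePresentation
import Mathlib.CategoryTheory.Preadditive.AdditiveFunctor
import Mathlib.CategoryTheory.Limits.Shapes.Biproducts
import Mathlib.CategoryTheory.Limits.Shapes.Kernels
import Mathlib.CategoryTheory.Limits.Preserves.Finite
import Mathlib.CategoryTheory.ObjectProperty.FullSubcategory
import Mathlib.CategoryTheory.Preadditive.Biproducts
import Mathlib.CategoryTheory.Preadditive.LeftExact

set_option linter.unusedSectionVars false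
set_option linter.unusedVariables false
set_option linter.unusedSimpArgs false
set_option autoImplicit false
set_option linter.style.haveILetI false
set_option maxHeartbeats 400000

noncomputable section

namespace Groth.Agent.Lib.Helper6.FunMor

open CategoryTheory CategoryTheory.Limits

universe u

variable (A : Type u) [CommRing A]

/-- the category of finitely presented modules -/
abbrev FP : Type (u + 1) :=
  ObjectProperty.FullSubcategory (fun M : ModuleCat.{u} A => Module.FinitePresentation A M)

variable {A}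

instance (X : FP A) : Module.FinitePresentation A X.obj := X.property

/-- constructor for objects -/
abbrev FP.of (M : Type u) [AddCommGroup M] [Module A M] [h : Module.FinitePresentation A M] :
    FP A := ⟨ModuleCat.of A M, h⟩

/-- constructor for morphisms -/
abbrev FP.homOf {X Y : FP A} (f : X.obj →ₗ[A] Y.obj) : X ⟶ Y :=
  ObjectProperty.homMk (ModuleCat.ofHom f)

/-- underlying linear map -/
abbrev FP.lin {X Y : FP A} (f : X ⟶ Y) : X.obj →ₗ[A] Y.obj := f.hom.hom

lemma FP.hom_ext' {X Y : FP A} {f g : X ⟶ Y} (h : FP.lin f = FP.lin g) : f = g := by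
  apply ObjectProperty.hom_ext
  exact ModuleCat.hom_ext h

@[simp] lemma FP.lin_homOf {X Y : FP A} (f : X.obj →ₗ[A] Y.obj) : FP.lin (FP.homOf f) = f := rfl

@[simp] lemma FP.lin_comp {X Y Z : FP A} (f : X ⟶ Y) (g : Y ⟶ Z) :
    FP.lin (f ≫ g) = (FP.lin g).comp (FP.lin f) := rfl

@[simp] lemma FP.lin_id (X : FP A) : FP.lin (𝟙 X) = LinearMap.id := rfl

@[simp] lemma FP.lin_add {X Y : FP A} (f g : X ⟶ Y) : FP.lin (f + g) = FP.lin f + FP.lin g := rfl

@[simp] lemma FP.lin_zero {X Y : FP A} : FP.lin (0 : X ⟶ Y) = 0 := rfl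

instance : HasZeroObject (FP A) := by
  refine ⟨⟨FP.of (A := A) PUnit, ?_⟩⟩
  constructor
  · intro Y
    refine ⟨⟨⟨0⟩, fun f => ?_⟩⟩
    apply FP.hom_ext'
    ext x
    have : x = 0 := Subsingleton.elim _ _
    subst this
    rw [map_zero, map_zero]
  · intro Y
    refine ⟨⟨⟨0⟩, fun f => ?_⟩⟩
    apply FP.hom_ext'
    apply LinearMap.ext
    intro x
    exact Subsingleton.elim _ _

/-- the binary bicone -/
def FP.bicone (X Y : FP A) : BinaryBicone X Y where
  pt := FP.of (X.obj × Y.obj)
  fst := FP.homOf (LinearMap.fst A X.obj Y.obj)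
  snd := FP.homOf (LinearMap.snd A X.obj Y.obj)
  inl := FP.homOf (LinearMap.inl A X.obj Y.obj)
  inr := FP.homOf (LinearMap.inr A X.obj Y.obj)
  inl_fst := by apply FP.hom_ext'; ext x; rfl
  inl_snd := by apply FP.hom_ext'; ext x; rfl
  inr_fst := by apply FP.hom_ext'; ext x; rfl
  inr_snd := by apply FP.hom_ext'; ext x; rfl

instance : HasBinaryBiproducts (FP A) where
  has_binary_biproduct X Y := by
    refine HasBinaryBiproduct.mk ⟨FP.bicone X Y, isBinaryBilimitOfTotal _ ?_⟩
    apply FP.hom_ext'
    apply LinearMap.ext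
    rintro ⟨a, b⟩
    change ((a, (0 : Y.obj)) + ((0 : X.obj), b) : X.obj × Y.obj) = (a, b)
    simp

instance : HasFiniteProducts (FP A) := hasFiniteProducts_of_has_binary_and_terminal

instance : HasFiniteBiproducts (FP A) := HasFiniteBiproducts.of_hasFiniteProducts

instance : HasFiniteCoproducts (FP A) := inferInstance

section Coker

variable {X Y : FP A} (f : X ⟶ Y)

instance cokerFP : Module.FinitePresentation A (Y.obj ⧸ LinearMap.range (FP.lin f)) := by
  apply Module.finitePresentation_of_surjective (LinearMap.range (FP.lin f)).mkQ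
    (Submodule.mkQ_surjective _)
  rw [Submodule.ker_mkQ, LinearMap.range_eq_map]
  exact Submodule.FG.map _ Module.Finite.fg_top

/-- the cokernel object -/
def FP.coker : FP A := FP.of (Y.obj ⧸ LinearMap.range (FP.lin f))

/-- the cokernel projection -/
def FP.cokerπ : Y ⟶ FP.coker f := FP.homOf (LinearMap.range (FP.lin f)).mkQ

lemma FP.coker_condition : f ≫ FP.cokerπ f = 0 := by
  apply FP.hom_ext'
  ext x
  change (LinearMap.range (FP.lin f)).mkQ (FP.lin f x) = 0
  rw [Submodule.mkQ_apply, Submodule.Quotient.mk_eq_zero]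
  exact ⟨x, rfl⟩

lemma FP.lin_cokerπ : FP.lin (FP.cokerπ f) = (LinearMap.range (FP.lin f)).mkQ := rfl

lemma FP.cokerπ_surjective : Function.Surjective (FP.lin (FP.cokerπ f)) :=
  Submodule.mkQ_surjective _

lemma FP.coker_exact : Function.Exact (FP.lin f) (FP.lin (FP.cokerπ f)) := by
  intro y
  change (LinearMap.range (FP.lin f)).mkQ y = 0 ↔ _
  rw [Submodule.mkQ_apply, Submodule.Quotient.mk_eq_zero]
  rfl

/-- the cokernel cofork is a colimit -/
def FP.cokerIsColimit : IsColimit (CokernelCofork.ofπ (FP.cokerπ f) (FP.coker_condition f)) :=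
  CokernelCofork.IsColimit.ofπ _ _
    (fun {Z'} g' eq' => FP.homOf ((LinearMap.range (FP.lin f)).liftQ (FP.lin g') (by
      rintro _ ⟨x, rfl⟩
      have := congrArg (fun t => FP.lin t x) eq'
      exact this)))
    (fun {Z'} g' eq' => by
      apply FP.hom_ext'
      ext y
      rfl)
    (fun {Z'} g' eq' m hm => by
      apply FP.hom_ext'
      apply LinearMap.ext
      intro y
      obtain ⟨y, rfl⟩ := Submodule.mkQ_surjective _ y
      have := congrArg (fun t => FP.lin t y) hm
      exact this)

instance : HasCokernels (FP A) where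
  has_colimit f := ⟨⟨⟨_, FP.cokerIsColimit f⟩⟩⟩

instance : HasCoequalizers (FP A) := Preadditive.hasCoequalizers_of_hasCokernels

end Coker

end Groth.Agent.Lib.Helper6.FunMor
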