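import Groth.Agent.Lib.Helper6.FunMor.RExact

set_option linter.unusedSectionVars false
set_option linter.unusedVariables false
set_option linter.unusedSimpArgs false
set_option autoImplicit false
set_option linter.style.haveILetI false
set_option maxHeartbeats 400000

noncomputable section

namespace Groth.Agent.Lib.Helper6.FunMor

open CategoryTheory CategoryTheory.Limits

universe u v' u'

variable {A : Type u} [CommRing A] {B : Type u'} [Category.{v'} B] [Preadditive B]
  [HasFiniteBiproducts B] [HasCokernels B]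
  (F F' : FP A ⥤ B) [PreservesFiniteColimits F] [PreservesFiniteColimits F']

theorem nat_ext (t t' : F ⟶ F') (h : t.app (baseObj (A := A)) = t'.app baseObj) : t = t' := by
  ext X
  apply (corF F X).hom_ext
  apply LinearMap.ext
  intro m
  apply HomK.ext
  change F.map (hat m) ≫ t.app X = F.map (hat m) ≫ t'.app X
  rw [t.naturality, t'.naturality, h]

/-- the linear map defining the extension -/
def extL (φ : F.obj (baseObj (A := A)) ⟶ F'.obj baseObj)
    (hφ : ∀ a : A, F.map (mulHom a) ≫ φ = φ ≫ F'.map (mulHom a)) (X : FP A) :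
    X.obj →ₗ[A] HomK (kap F) (F'.obj X) where
  toFun m := HomK.mk _ (φ ≫ F'.map (hat m))
  map_add' m m' := by
    haveI := additive_of_rexact F'
    apply HomK.ext
    simp only [HomK.hom_mk, HomK.hom_add]
    rw [hat_add, F'.map_add, Preadditive.comp_add]
  map_smul' a m := by
    apply HomK.ext
    simp only [HomK.hom_mk, HomK.hom_smul, RingHom.id_apply]
    rw [hat_smul, F'.map_comp, kap_apply, ← Category.assoc, ← hφ, Category.assoc]

lemma extL_apply_hom (φ : F.obj (baseObj (A := A)) ⟶ F'.obj baseObj)
    (hφ : ∀ a : A, F.map (mulHom a) ≫ φ = φ ≫ F'.map (mulHom a)) (X : FP A) (m : X.obj) :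
    (extL F F' φ hφ X m).hom = φ ≫ F'.map (hat m) := rfl

/-- the extension -/
def extNat (φ : F.obj (baseObj (A := A)) ⟶ F'.obj baseObj)
    (hφ : ∀ a : A, F.map (mulHom a) ≫ φ = φ ≫ F'.map (mulHom a)) : F ⟶ F' where
  app X := (corF F X).lift (extL F F' φ hφ X)
  naturality X Y f := by
    apply (corF F X).hom_ext
    apply LinearMap.ext
    intro m
    apply HomK.ext
    change F.map (hat m) ≫ F.map f ≫ (corF F Y).lift (extL F F' φ hφ Y) =
      F.map (hat m) ≫ (corF F X).lift (extL F F' φ hφ X) ≫ F'.map f
    have h1 := congrArg (fun t => (t (FP.lin f m)).hom) ((corF F Y).lift_spec (extL F F' φ hφ Y))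
    have h2 := congrArg (fun t => (t m).hom) ((corF F X).lift_spec (extL F F' φ hφ X))
    change F.map (hat (FP.lin f m)) ≫ (corF F Y).lift (extL F F' φ hφ Y) =
      φ ≫ F'.map (hat (FP.lin f m)) at h1
    change F.map (hat m) ≫ (corF F X).lift (extL F F' φ hφ X) = φ ≫ F'.map (hat m) at h2
    rw [← Category.assoc, ← F.map_comp, hat_comp, h1, ← Category.assoc, h2, Category.assoc,
      ← F'.map_comp, hat_comp]

lemma extNat_app_base (φ : F.obj (baseObj (A := A)) ⟶ F'.obj baseObj)
    (hφ : ∀ a : A, F.map (mulHom a) ≫ φ = φ ≫ F'.map (mulHom a)) :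
    (extNat F F' φ hφ).app baseObj = φ := by
  apply (corF F baseObj).hom_ext
  apply LinearMap.ext
  intro a
  apply HomK.ext
  have h2 := congrArg (fun t => (t a).hom) ((corF F baseObj).lift_spec (extL F F' φ hφ baseObj))
  change F.map (hat (X := baseObj) a) ≫ (corF F baseObj).lift (extL F F' φ hφ baseObj) =
    φ ≫ F'.map (hat (X := baseObj) a) at h2
  change F.map (hat (X := baseObj) a) ≫ (corF F baseObj).lift (extL F F' φ hφ baseObj) =
    F.map (hat (X := baseObj) a) ≫ φ
  rw [h2, hat_base, hφ]

end Groth.Agent.Lib.Helper6.FunMor
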