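import Groth.Agent.Lib.Helper6.FunMor.Exist
import Groth.Agent.Lib.Helper6.FunMor.FPCat
import Mathlib.CategoryTheory.Limits.Preserves.Shapes.Kernels

set_option linter.unusedSectionVars false
set_option linter.unusedVariables false
set_option linter.unusedSimpArgs false
set_option autoImplicit false
set_option linter.style.haveILetI false
set_option maxHeartbeats 400000

noncomputable section

namespace Groth.Agent.Lib.Helper6.FunMor

open CategoryTheory CategoryTheory.Limits

universe u v' u'

variable {A : Type u} [CommRing A] {B : Type u'} [Category.{v'} B] [Preadditive B]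
  [HasFiniteBiproducts B] [HasCokernels B] {K : B} (κ : A →+* End K)

/-- the chosen corepresentation -/
def cor (X : FP A) : Corep κ X.obj := (nonempty_corep κ X.obj).some

/-- the functor -/
@[reducible] def Ffun : FP A ⥤ B where
  obj X := (cor κ X).Y
  map {X Y} f := (cor κ X).map (cor κ Y) (FP.lin f)
  map_id X := Corep.map_id _
  map_comp {X Y Z} f g := (Corep.map_comp (cor κ X) (cor κ Y) (cor κ Z) (FP.lin f) (FP.lin g)).symm

lemma Ffun_map {X Y : FP A} (f : X ⟶ Y) :
    (Ffun κ).map f = (cor κ X).map (cor κ Y) (FP.lin f) := rfl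

instance : (Ffun κ).Additive where
  map_add {X Y} {f g} := Corep.map_add (cor κ X) (cor κ Y) (FP.lin f) (FP.lin g)

/-- the corepresentation of the cokernel obtained from the cokernel in `B` -/
@[reducible] def cokC {X Y : FP A} (f : X ⟶ Y) : Corep κ (FP.coker f).obj :=
  cokerCorep (cor κ X) (cor κ Y) (FP.lin f) (FP.lin (FP.cokerπ f)) (FP.cokerπ_surjective f)
    (FP.coker_exact f)

lemma cokC_Y {X Y : FP A} (f : X ⟶ Y) : (cokC κ f).Y = cokernel ((Ffun κ).map f) := rfl

lemma cokernelπ_eq {X Y : FP A} (f : X ⟶ Y) :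
    (cokernel.π ((Ffun κ).map f) : (cor κ Y).Y ⟶ (cokC κ f).Y) =
      (cor κ Y).map (cokC κ f) (FP.lin (FP.cokerπ f)) := by
  exact Corep.map_unique (cor κ Y) (cokC κ f) (FP.lin (FP.cokerπ f)) _
    ((cokerU (cor κ X) (cor κ Y) (FP.lin f) (FP.lin (FP.cokerπ f)) (FP.cokerπ_surjective f)
    (FP.coker_exact f)).2).symm

instance preservesCoker {X Y : FP A} (f : X ⟶ Y) :
    PreservesColimit (parallelPair f 0) (Ffun κ) := by
  apply preservesColimit_of_preserves_colimit_cocone (FP.cokerIsColimit f)
  refine (isColimitMapCoconeCoforkEquiv' (Ffun κ) (FP.coker_condition f)).symm ?_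
  refine IsColimit.ofIsoColimit (cokernelIsCokernel ((Ffun κ).map f)) ?_
  refine Cofork.ext ((cokC κ f).iso (cor κ (FP.coker f))) ?_
  change cokernel.π ((Ffun κ).map f) ≫ (cokC κ f).map (cor κ (FP.coker f)) LinearMap.id = _
  rw [cokernelπ_eq, Corep.map_comp, LinearMap.id_comp]
  rfl

instance : HasZeroObject B := hasZeroObject_of_hasFiniteBiproducts B

instance FfunPres : PreservesFiniteColimits (Ffun κ) :=
  Functor.preservesFiniteColimits_of_preservesCokernels (Ffun κ)

/-- the base object -/
abbrev baseObj : FP A := FP.of A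

/-- the iso at the base object -/
def eIso : (Ffun κ).obj (baseObj (A := A)) ≅ K :=
  (cor κ (baseObj (A := A))).iso (selfCorep κ)

lemma eIso_compat (a : A) :
    (Ffun κ).map (FP.homOf (LinearMap.lsmul A A a) : baseObj (A := A) ⟶ baseObj (A := A)) ≫
      (eIso κ).hom = (eIso κ).hom ≫ (κ a : K ⟶ K) := by
  change (cor κ baseObj).map (cor κ baseObj) (LinearMap.lsmul A A a) ≫
    (cor κ baseObj).map (selfCorep κ) LinearMap.id =
    (cor κ baseObj).map (selfCorep κ) LinearMap.id ≫ (κ a : K ⟶ K)
  rw [Corep.map_comp, LinearMap.id_comp]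
  symm
  refine Corep.map_unique (cor κ baseObj) (selfCorep κ) (LinearMap.lsmul A A a) _ ?_
  rw [postL_comp, LinearMap.comp_assoc, Corep.map_spec, LinearMap.comp_id]
  apply LinearMap.ext
  intro b
  apply HomK.ext
  simp only [LinearMap.comp_apply, postL_apply_hom]
  rw [selfCorep_u_apply]
  change _ = ((selfCorep κ).u (a * b)).hom
  rw [selfCorep_u_apply, map_mul, End.mul_def]

end Groth.Agent.Lib.Helper6.FunMor
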