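import Mathlib.Algebra.Category.ModuleCat.Basic
import Mathlib.Algebra.Module.FinitePresentation
import Mathlib.CategoryTheory.Preadditive.AdditiveFunctor
import Mathlib.CategoryTheory.Limits.Shapes.Biproducts
import Mathlib.CategoryTheory.Limits.Shapes.Kernels
import Mathlib.CategoryTheory.Endomorphism

set_option linter.unusedSectionVars false
set_option linter.unusedVariables false
set_option linter.unusedSimpArgs false
set_option autoImplicit false
set_option linter.style.haveILetI false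
set_option maxHeartbeats 400000

noncomputable section

namespace Groth.Agent.Lib.Helper6.FunMor

open CategoryTheory CategoryTheory.Limits

universe u v' u' w w'

variable {A : Type u} [CommRing A] {B : Type u'} [Category.{v'} B] [Preadditive B] {K : B}
  (κ : A →+* End K)

/-- `Hom(K, X)` as an `A`-module through `κ`. -/
def HomK (κ : A →+* End K) (X : B) : Type v' := K ⟶ X

instance (X : B) : AddCommGroup (HomK κ X) := inferInstanceAs (AddCommGroup (K ⟶ X))

/-- constructor -/
def HomK.mk {X : B} (f : K ⟶ X) : HomK κ X := f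

/-- destructor -/
def HomK.hom {X : B} (f : HomK κ X) : K ⟶ X := f

@[ext] lemma HomK.ext {X : B} {f g : HomK κ X} (h : f.hom = g.hom) : f = g := h

@[simp] lemma HomK.hom_mk {X : B} (f : K ⟶ X) : (HomK.mk κ f).hom = f := rfl
@[simp] lemma HomK.mk_hom {X : B} (f : HomK κ X) : HomK.mk κ f.hom = f := rfl
@[simp] lemma HomK.hom_add {X : B} (f g : HomK κ X) : (f + g).hom = f.hom + g.hom := rfl
@[simp] lemma HomK.hom_zero {X : B} : (0 : HomK κ X).hom = 0 := rfl

instance (X : B) : Module A (HomK κ X) where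
  smul a f := HomK.mk κ ((κ a : K ⟶ K) ≫ f.hom)
  one_smul f := by
    change (κ 1 : K ⟶ K) ≫ f.hom = f.hom
    rw [map_one]; exact Category.id_comp _
  mul_smul a b f := by
    change (κ (a * b) : K ⟶ K) ≫ f.hom = (κ a : K ⟶ K) ≫ ((κ b : K ⟶ K) ≫ f.hom)
    rw [mul_comm, map_mul, End.mul_def, Category.assoc]
  smul_zero a := by
    change (κ a : K ⟶ K) ≫ (0 : K ⟶ X) = 0
    exact comp_zero
  smul_add a f g := by
    change (κ a : K ⟶ K) ≫ (f.hom + g.hom) = (κ a : K ⟶ K) ≫ f.hom + (κ a : K ⟶ K) ≫ g.hom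
    exact Preadditive.comp_add _ _ _ _ _ _
  add_smul a b f := by
    change (κ (a + b) : K ⟶ K) ≫ f.hom = (κ a : K ⟶ K) ≫ f.hom + (κ b : K ⟶ K) ≫ f.hom
    rw [map_add]; exact Preadditive.add_comp _ _ _ _ _ _
  zero_smul f := by
    change (κ 0 : K ⟶ K) ≫ f.hom = 0
    rw [map_zero]; exact zero_comp

@[simp] lemma HomK.hom_smul {X : B} (a : A) (f : HomK κ X) :
    (a • f).hom = (κ a : K ⟶ K) ≫ f.hom := rfl

/-- post-composition -/
def postL {X X' : B} (g : X ⟶ X') : HomK κ X →ₗ[A] HomK κ X' where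
  toFun f := HomK.mk κ (f.hom ≫ g)
  map_add' f f' := Preadditive.add_comp _ _ _ _ _ _
  map_smul' a f := Category.assoc _ _ _

@[simp] lemma postL_apply_hom {X X' : B} (g : X ⟶ X') (f : HomK κ X) :
    (postL κ g f).hom = f.hom ≫ g := rfl

lemma postL_id (X : B) : postL κ (𝟙 X) = LinearMap.id := by
  ext f; simp

lemma postL_comp {X X' X'' : B} (g : X ⟶ X') (g' : X' ⟶ X'') :
    postL κ (g ≫ g') = (postL κ g').comp (postL κ g) := by
  ext f; simp

lemma postL_add {X X' : B} (g g' : X ⟶ X') : postL κ (g + g') = postL κ g + postL κ g' := by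
  ext f; simp

lemma postL_zero {X X' : B} : postL κ (0 : X ⟶ X') = 0 := by
  ext f; simp

/-- corepresentation data -/
structure Corep (M : Type w) [AddCommGroup M] [Module A M] where
  /-- the object -/
  Y : B
  /-- the universal element -/
  u : M →ₗ[A] HomK κ Y
  /-- universality -/
  bij : ∀ X : B, Function.Bijective (fun g : Y ⟶ X => (postL κ g).comp u)

namespace Corep

variable {κ}
variable {M : Type w} [AddCommGroup M] [Module A M] {N : Type w'} [AddCommGroup N] [Module A N]

/-- lift -/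
def lift (c : Corep κ M) {X : B} (ℓ : M →ₗ[A] HomK κ X) : c.Y ⟶ X :=
  (Equiv.ofBijective _ (c.bij X)).symm ℓ

lemma lift_spec (c : Corep κ M) {X : B} (ℓ : M →ₗ[A] HomK κ X) :
    (postL κ (c.lift ℓ)).comp c.u = ℓ :=
  (Equiv.ofBijective _ (c.bij X)).apply_symm_apply ℓ

lemma hom_ext (c : Corep κ M) {X : B} {g g' : c.Y ⟶ X}
    (h : (postL κ g).comp c.u = (postL κ g').comp c.u) : g = g' :=
  (c.bij X).1 h

lemma lift_unique (c : Corep κ M) {X : B} (ℓ : M →ₗ[A] HomK κ X) (g : c.Y ⟶ X)
    (h : (postL κ g).comp c.u = ℓ) : g = c.lift ℓ :=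
  c.hom_ext (h.trans (c.lift_spec ℓ).symm)

/-- induced map -/
def map (c : Corep κ M) (c' : Corep κ N) (f : M →ₗ[A] N) : c.Y ⟶ c'.Y :=
  c.lift (c'.u.comp f)

lemma map_spec (c : Corep κ M) (c' : Corep κ N) (f : M →ₗ[A] N) :
    (postL κ (c.map c' f)).comp c.u = c'.u.comp f :=
  c.lift_spec _

lemma map_unique (c : Corep κ M) (c' : Corep κ N) (f : M →ₗ[A] N) (g : c.Y ⟶ c'.Y)
    (h : (postL κ g).comp c.u = c'.u.comp f) : g = c.map c' f :=
  c.lift_unique _ g h

lemma map_id (c : Corep κ M) : c.map c LinearMap.id = 𝟙 _ := by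
  symm
  apply c.map_unique
  rw [postL_id]; rfl

lemma map_comp {P : Type*} [AddCommGroup P] [Module A P] (c : Corep κ M) (c' : Corep κ N)
    (c'' : Corep κ P) (f : M →ₗ[A] N) (f' : N →ₗ[A] P) :
    c.map c' f ≫ c'.map c'' f' = c.map c'' (f'.comp f) := by
  apply c.map_unique
  rw [postL_comp, LinearMap.comp_assoc, map_spec, ← LinearMap.comp_assoc, map_spec,
    LinearMap.comp_assoc]

lemma map_add (c : Corep κ M) (c' : Corep κ N) (f f' : M →ₗ[A] N) :
    c.map c' (f + f') = c.map c' f + c.map c' f' := by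
  symm
  apply c.map_unique
  rw [postL_add, LinearMap.add_comp, map_spec, map_spec, LinearMap.comp_add]

lemma map_zero (c : Corep κ M) (c' : Corep κ N) :
    c.map c' (0 : M →ₗ[A] N) = 0 := by
  symm
  apply c.map_unique
  rw [postL_zero, LinearMap.zero_comp, LinearMap.comp_zero]

lemma lift_comp_map (c : Corep κ M) (c' : Corep κ N) (f : M →ₗ[A] N) {X : B}
    (ℓ : N →ₗ[A] HomK κ X) : c.map c' f ≫ c'.lift ℓ = c.lift (ℓ.comp f) := by
  apply c.lift_unique
  rw [postL_comp, LinearMap.comp_assoc, map_spec, ← LinearMap.comp_assoc, lift_spec]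

/-- the iso between two corepresentations -/
def iso (c c' : Corep κ M) : c.Y ≅ c'.Y where
  hom := c.map c' LinearMap.id
  inv := c'.map c LinearMap.id
  hom_inv_id := by rw [map_comp, LinearMap.comp_id, map_id]
  inv_hom_id := by rw [map_comp, LinearMap.comp_id, map_id]

end Corep

end Groth.Agent.Lib.Helper6.FunMor
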