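import Groth.Agent.Lib.Helper6.FunMor.Fun
import Mathlib.CategoryTheory.Preadditive.Biproducts

set_option linter.unusedSectionVars false
set_option linter.unusedVariables false
set_option linter.unusedSimpArgs false
set_option autoImplicit false
set_option linter.style.haveILetI false
set_option maxHeartbeats 400000

noncomputable section

namespace Groth.Agent.Lib.Helper6.FunMor

open CategoryTheory CategoryTheory.Limits

universe u v' u' w w' w''

variable {A : Type u} [CommRing A] {B : Type u'} [Category.{v'} B] [Preadditive B]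

section GenCoker

variable {K : B} {κ : A →+* End K}
variable {M' : Type w'} [AddCommGroup M'] [Module A M'] {M'' : Type w''} [AddCommGroup M'']
  [Module A M''] {M : Type w} [AddCommGroup M] [Module A M]

/-- corepresentation of a cokernel, for an arbitrary cokernel cofork -/
def cokerCorepOfIsColimit (c' : Corep κ M') (c'' : Corep κ M'') (ρ : M' →ₗ[A] M'')
    (p : M'' →ₗ[A] M) (hp : Function.Surjective p) (hex : Function.Exact ρ p)
    {Y : B} (π : c''.Y ⟶ Y) (w : c'.map c'' ρ ≫ π = 0)
    (hcol : IsColimit (CokernelCofork.ofπ π w))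
    (u : M →ₗ[A] HomK κ Y) (hu : u.comp p = (postL κ π).comp c''.u) : Corep κ M where
  Y := Y
  u := u
  bij X := by
    constructor
    · intro g g' h
      have h' := congrArg (fun ℓ => ℓ.comp p) h
      simp only [LinearMap.comp_assoc, hu] at h'
      rw [← LinearMap.comp_assoc, ← LinearMap.comp_assoc, ← postL_comp, ← postL_comp] at h'
      have := c''.hom_ext h'
      exact Cofork.IsColimit.hom_ext hcol this
    · intro ℓ
      have hz : c'.map c'' ρ ≫ c''.lift (ℓ.comp p) = 0 := by
        apply c'.hom_ext
        rw [postL_comp, LinearMap.comp_assoc, Corep.map_spec, ← LinearMap.comp_assoc,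
          Corep.lift_spec, postL_zero, LinearMap.zero_comp]
        ext y
        simp only [LinearMap.comp_apply]
        rw [(hex (ρ y)).2 ⟨y, rfl⟩, map_zero]
        rfl
      obtain ⟨g, hg⟩ := CokernelCofork.IsColimit.desc' hcol _ hz
      refine ⟨g, ?_⟩
      apply LinearMap.ext
      intro x
      obtain ⟨y, rfl⟩ := hp x
      have h1 := LinearMap.congr_fun hu y
      simp only [LinearMap.comp_apply] at h1 ⊢
      rw [h1]
      have h2 := LinearMap.congr_fun (c''.lift_spec (ℓ.comp p)) y
      simp only [LinearMap.comp_apply] at h2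
      rw [← h2]
      apply HomK.ext
      simp only [postL_apply_hom, Category.assoc]
      have : π ≫ g = c''.lift (ℓ.comp p) := hg
      rw [this]

end GenCoker

section FPColim

lemma FP.ker_le_of_exact {X Y Z Z' : FP A} (f : X ⟶ Y) (p : Y ⟶ Z)
    (hex : Function.Exact (FP.lin f) (FP.lin p)) (g' : Y ⟶ Z') (eq' : f ≫ g' = 0) :
    LinearMap.ker (FP.lin p) ≤ LinearMap.ker (FP.lin g') := by
  intro x hx
  obtain ⟨y, rfl⟩ := (hex x).1 hx
  rw [LinearMap.mem_ker]
  exact congrArg (fun t => FP.lin t y) eq'

/-- the descent map -/
def FP.descOfExact {X Y Z Z' : FP A} (f : X ⟶ Y) (p : Y ⟶ Z)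
    (hp : Function.Surjective (FP.lin p)) (hex : Function.Exact (FP.lin f) (FP.lin p))
    (g' : Y ⟶ Z') (eq' : f ≫ g' = 0) : Z ⟶ Z' :=
  FP.homOf (exists_factor (FP.lin p) hp (FP.lin g') (FP.ker_le_of_exact f p hex g' eq')).choose

lemma FP.fac_descOfExact {X Y Z Z' : FP A} (f : X ⟶ Y) (p : Y ⟶ Z)
    (hp : Function.Surjective (FP.lin p)) (hex : Function.Exact (FP.lin f) (FP.lin p))
    (g' : Y ⟶ Z') (eq' : f ≫ g' = 0) : p ≫ FP.descOfExact f p hp hex g' eq' = g' := by
  apply FP.hom_ext'
  exact (exists_factor (FP.lin p) hp (FP.lin g') (FP.ker_le_of_exact f p hex g' eq')).choose_spec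

/-- a right exact sequence in `FP A` gives a cokernel cofork -/
def FP.isColimitOfExact {X Y Z : FP A} (f : X ⟶ Y) (p : Y ⟶ Z)
    (hp : Function.Surjective (FP.lin p)) (hex : Function.Exact (FP.lin f) (FP.lin p))
    (w : f ≫ p = 0) : IsColimit (CokernelCofork.ofπ p w) :=
  CokernelCofork.IsColimit.ofπ _ _
    (fun {Z'} g' eq' => FP.descOfExact f p hp hex g' eq')
    (fun {Z'} g' eq' => FP.fac_descOfExact f p hp hex g' eq')
    (fun {Z'} g' eq' m hm => by
      apply FP.hom_ext'
      apply LinearMap.ext
      intro z
      obtain ⟨y, rfl⟩ := hp z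
      have h1 := congrArg (fun t => FP.lin t y) hm
      have h2 := congrArg (fun t => FP.lin t y) (FP.fac_descOfExact f p hp hex g' eq')
      exact h1.trans h2.symm)

end FPColim

section RightExact

variable [HasFiniteBiproducts B] [HasCokernels B]
variable (F : FP A ⥤ B) [PreservesFiniteColimits F]

lemma additive_of_rexact : F.Additive := by
  haveI : F.PreservesZeroMorphisms := inferInstance
  haveI := preservesBinaryBiproducts_of_preservesBinaryCoproducts F
  exact Functor.additive_of_preservesBinaryBiproducts F

/-- multiplication by `a` on the base object -/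
abbrev mulHom (a : A) : baseObj (A := A) ⟶ baseObj := FP.homOf (LinearMap.lsmul A A a)

/-- the map `A → M` attached to an element -/
def hat {X : FP A} (m : X.obj) : baseObj (A := A) ⟶ X :=
  FP.homOf ((LinearMap.id : A →ₗ[A] A).smulRight m)

lemma lin_hat {X : FP A} (m : X.obj) (a : A) : FP.lin (hat m) a = a • m := rfl

lemma hat_comp {X Y : FP A} (m : X.obj) (f : X ⟶ Y) : hat m ≫ f = hat (FP.lin f m) := by
  apply FP.hom_ext'
  apply LinearMap.ext
  intro a
  change FP.lin f (a • m) = a • FP.lin f m
  rw [map_smul]

lemma hat_add {X : FP A} (m m' : X.obj) : hat (m + m') = hat m + hat m' := by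
  apply FP.hom_ext'
  apply LinearMap.ext
  intro a
  change a • (m + m') = a • m + a • m'
  rw [smul_add]

lemma hat_smul {X : FP A} (a : A) (m : X.obj) :
    hat (a • m) = mulHom a ≫ hat m := by
  apply FP.hom_ext'
  apply LinearMap.ext
  intro b
  change b • a • m = (a * b) • m
  rw [smul_smul, mul_comm]

lemma hat_base (a : A) : (hat (X := baseObj (A := A)) a) =
    mulHom a := by
  apply FP.hom_ext'
  apply LinearMap.ext
  intro b
  change b • a = a * b
  rw [smul_eq_mul, mul_comm]

/-- the action of `A` on `F(A)` -/
def kap : A →+* End (F.obj (baseObj (A := A))) where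
  toFun a := F.map (mulHom a)
  map_one' := by
    have : mulHom (1 : A) = 𝟙 _ := by
      apply FP.hom_ext'
      apply LinearMap.ext
      intro b
      change (1 : A) * b = b
      rw [one_mul]
    rw [this, F.map_id]; rfl
  map_mul' a b := by
    have : mulHom (a * b) = mulHom b ≫ mulHom a := by
      apply FP.hom_ext'
      apply LinearMap.ext
      intro c
      change a * b * c = a * (b * c)
      rw [mul_assoc]
    rw [this, F.map_comp]; rfl
  map_zero' := by
    haveI := additive_of_rexact F
    have : mulHom (0 : A) = 0 := by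
      apply FP.hom_ext'
      apply LinearMap.ext
      intro c
      change (0 : A) * c = 0
      rw [zero_mul]
    rw [this, F.map_zero]
  map_add' a b := by
    haveI := additive_of_rexact F
    have : mulHom (a + b) = mulHom a + mulHom b := by
      apply FP.hom_ext'
      apply LinearMap.ext
      intro c
      change (a + b) * c = a * c + b * c
      rw [add_mul]
    rw [this, F.map_add]

lemma kap_apply (a : A) : (kap F a : F.obj baseObj ⟶ F.obj baseObj) =
    F.map (mulHom a) := rfl

/-- the candidate universal element -/
def uF (X : FP A) : X.obj →ₗ[A] HomK (kap F) (F.obj X) where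
  toFun m := HomK.mk _ (F.map (hat m))
  map_add' m m' := by
    haveI := additive_of_rexact F
    apply HomK.ext
    simp only [HomK.hom_mk, HomK.hom_add]
    rw [hat_add, F.map_add]
  map_smul' a m := by
    apply HomK.ext
    simp only [HomK.hom_mk, HomK.hom_smul, RingHom.id_apply]
    rw [hat_smul, F.map_comp, kap_apply]

lemma uF_apply_hom (X : FP A) (m : X.obj) : (uF F X m).hom = F.map (hat m) := rfl

lemma uF_natural {X Y : FP A} (f : X ⟶ Y) :
    (postL (kap F) (F.map f)).comp (uF F X) = (uF F Y).comp (FP.lin f) := by
  apply LinearMap.ext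
  intro m
  apply HomK.ext
  simp only [LinearMap.comp_apply, postL_apply_hom, uF_apply_hom]
  rw [← F.map_comp, hat_comp]

/-- free object -/
abbrev freeObj (n : ℕ) : FP A := FP.of (Fin n → A)

/-- projections -/
def prj (n : ℕ) (i : Fin n) : freeObj (A := A) n ⟶ baseObj :=
  FP.homOf (LinearMap.proj i)

/-- inclusions -/
def inj (n : ℕ) (i : Fin n) : baseObj (A := A) ⟶ freeObj n :=
  FP.homOf (LinearMap.single A (fun _ : Fin n => A) i)

lemma total (n : ℕ) : ∑ i : Fin n, prj (A := A) n i ≫ inj n i = 𝟙 _ := by
  classical
  apply FP.hom_ext'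
  apply LinearMap.ext
  intro v
  have h1 : FP.lin (∑ i : Fin n, prj (A := A) n i ≫ inj n i) =
      ∑ i : Fin n, FP.lin (prj (A := A) n i ≫ inj n i) := by
    induction (Finset.univ : Finset (Fin n)) using Finset.induction_on with
    | empty => simp
    | insert a s ha ih => rw [Finset.sum_insert ha, Finset.sum_insert ha, FP.lin_add, ih]
  rw [h1, LinearMap.sum_apply]
  change ∑ i : Fin n, Pi.single i (v i) = v
  exact Finset.univ_sum_single v

lemma hat_prj (n : ℕ) (v : Fin n → A) (i : Fin n) :
    hat (X := freeObj n) v ≫ prj n i =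
      mulHom (v i) := by
  rw [hat_comp]
  exact hat_base _

/-- the free corepresentation for a right exact functor -/
def freeCorepF (n : ℕ) : Corep (kap F) (Fin n → A) where
  Y := F.obj (freeObj n)
  u := uF F (freeObj n)
  bij X := by
    classical
    haveI := additive_of_rexact F
    have htot : ∑ i : Fin n, F.map (prj (A := A) n i) ≫ F.map (inj n i) = 𝟙 _ := by
      rw [← F.map_id, ← total n, F.map_sum]
      simp only [F.map_comp]
    constructor
    · intro g g' h
      have key : ∀ i, F.map (inj n i) ≫ g = F.map (inj n i) ≫ g' := by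
        intro i
        have := congrArg (fun ℓ => (ℓ (Pi.single i (1 : A))).hom) h
        change F.map (hat (X := freeObj n) (Pi.single i (1 : A))) ≫ g =
          F.map (hat (X := freeObj n) (Pi.single i (1 : A))) ≫ g' at this
        have e : hat (X := freeObj (A := A) n) (Pi.single i (1 : A)) = inj n i := by
          apply FP.hom_ext'
          apply LinearMap.ext
          intro a
          change a • (Pi.single i (1 : A) : Fin n → A) = Pi.single i a
          rw [← Pi.single_smul, smul_eq_mul, mul_one]
        rw [e] at this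
        exact this
      calc g = (∑ i : Fin n, F.map (prj (A := A) n i) ≫ F.map (inj n i)) ≫ g := by
            rw [htot, Category.id_comp]
        _ = ∑ i : Fin n, F.map (prj (A := A) n i) ≫ F.map (inj n i) ≫ g := by
            rw [Preadditive.sum_comp]; simp only [Category.assoc]
        _ = ∑ i : Fin n, F.map (prj (A := A) n i) ≫ F.map (inj n i) ≫ g' := by
            simp only [key]
        _ = (∑ i : Fin n, F.map (prj (A := A) n i) ≫ F.map (inj n i)) ≫ g' := by
            rw [Preadditive.sum_comp]; simp only [Category.assoc]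
        _ = g' := by rw [htot, Category.id_comp]
    · intro ℓ
      refine ⟨∑ i : Fin n, F.map (prj (A := A) n i) ≫ (ℓ (Pi.single i 1)).hom, ?_⟩
      apply LinearMap.ext
      intro v
      apply HomK.ext
      change F.map (hat (X := freeObj n) v) ≫
        (∑ i : Fin n, F.map (prj (A := A) n i) ≫ (ℓ (Pi.single i 1)).hom) = (ℓ v).hom
      rw [Preadditive.comp_sum]
      have : ∀ i : Fin n, F.map (hat (X := freeObj n) v) ≫ F.map (prj (A := A) n i) ≫
          (ℓ (Pi.single i 1)).hom = (ℓ (Pi.single i (v i))).hom := by
        intro i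
        rw [← Category.assoc, ← F.map_comp, hat_prj]
        have e : (Pi.single i (v i) : Fin n → A) = v i • Pi.single i (1 : A) := by
          rw [← Pi.single_smul, smul_eq_mul, mul_one]
        rw [e, map_smul, HomK.hom_smul, kap_apply]
      simp only [this]
      have hv : v = ∑ i : Fin n, Pi.single i (v i) := (Finset.univ_sum_single v).symm
      conv_rhs => rw [hv, map_sum]
      clear hv this htot
      induction (Finset.univ : Finset (Fin n)) using Finset.induction_on with
      | empty => simp
      | insert a s ha ih => rw [Finset.sum_insert ha, Finset.sum_insert ha, HomK.hom_add, ih]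

/-- every value of a right exact functor corepresents -/
theorem bij_corepF (X : FP A) (Z : B) :
    Function.Bijective (fun g : F.obj X ⟶ Z => (postL (kap F) g).comp (uF F X)) := by
  obtain ⟨n, m, p, ρ, hp, hex⟩ := Module.FinitePresentation.exists_fin' A X.obj
  let ρ' : freeObj (A := A) m ⟶ freeObj n := FP.homOf ρ
  let p' : freeObj (A := A) n ⟶ X := FP.homOf p
  have hmap : (freeCorepF F m).map (freeCorepF F n) ρ = F.map ρ' := by
    symm
    exact Corep.map_unique (freeCorepF F m) (freeCorepF F n) ρ (F.map ρ') (uF_natural F ρ')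
  have w0 : ρ' ≫ p' = 0 := by
    apply FP.hom_ext'
    apply LinearMap.ext
    intro y
    exact (hex (ρ y)).2 ⟨y, rfl⟩
  have hcol0 : IsColimit (CokernelCofork.ofπ p' w0) := FP.isColimitOfExact ρ' p' hp hex w0
  have w1 : F.map ρ' ≫ F.map p' = 0 := by
    rw [← F.map_comp, w0]
    haveI := additive_of_rexact F
    exact F.map_zero _ _
  have w : (freeCorepF F m).map (freeCorepF F n) ρ ≫ F.map p' = 0 := by
    rw [hmap]; exact w1
  have hcol1 := isColimitCoforkMapOfIsColimit' F w0 hcol0
  have hcol : IsColimit (CokernelCofork.ofπ (F.map p') w) := by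
    revert w
    rw [hmap]
    intro w
    exact hcol1
  exact (cokerCorepOfIsColimit (freeCorepF F m) (freeCorepF F n) ρ p hp hex (F.map p') w hcol
    (uF F X) (uF_natural F p').symm).bij Z

/-- the corepresentation carried by a right exact functor -/
def corF (X : FP A) : Corep (kap F) X.obj where
  Y := F.obj X
  u := uF F X
  bij Z := bij_corepF F X Z

end RightExact

end Groth.Agent.Lib.Helper6.FunMor
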